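import Mathlib

/-!
# Zassenhaus: a perfect fixed-point-free automorphism group is SL(2,5) (S0690) - interface

Team project "ZAS" (coordinator helper90).  This file only contains definitions and the
statements (as `Prop`s) of the packages.  Conventions:

* `F` is a field (algebraically closed, characteristic `p`), `V` a finite dimensional nonzero
  `F`-space, `G : Subgroup (V ≃ₗ[F] V)` a finite group in which every non-identity element has
  no non-zero fixed vector (`Setup`).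
* `op g : Module.End F V` is the endomorphism of `g`.
* `PF w q` ("`q` is a positive frame at `w`"): `orderOf q = 4 ∧ orderOf (w * q) = 6`.
* `SameLine w q q'`: `q'` is `q`, `w q w⁻¹` or `w⁻¹ q w`.
-/

set_option autoImplicit false

namespace Cfsg.Agent.Lib.Helper90.Zas

universe u

/-- The target group. -/
abbrev SL25 : Type := Matrix.SpecialLinearGroup (Fin 2) (ZMod 5)

/-- `q` is a positive frame at `w`. -/
def PF {Γ : Type*} [Group Γ] (w q : Γ) : Prop := orderOf q = 4 ∧ orderOf (w * q) = 6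

/-- `q'` is one of the three `⟨w⟩`-conjugates of `q`. -/
def SameLine {Γ : Type*} [Group Γ] (w q q' : Γ) : Prop :=
  q' = q ∨ q' = w * q * w⁻¹ ∨ q' = w⁻¹ * q * w

/-- Every Sylow subgroup is cyclic or generalized quaternion. -/
def SylCond (Γ : Type*) [Group Γ] : Prop :=
  ∀ (r : ℕ) [Fact r.Prime] (P : Sylow r Γ),
    IsCyclic P ∨ ∃ n : ℕ, Nonempty (P ≃* QuaternionGroup (2 ^ n))

/-- At most one involution. -/
def UI (Γ : Type*) [Group Γ] : Prop := ∀ g h : Γ, orderOf g = 2 → orderOf h = 2 → g = h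

section Lin

variable {F : Type} [Field F] {V : Type u} [AddCommGroup V] [Module F V]

/-- The endomorphism of a linear automorphism. -/
def op (g : V ≃ₗ[F] V) : Module.End F V := g.toLinearMap

theorem op_apply (g : V ≃ₗ[F] V) (v : V) : op g v = g v := rfl

theorem op_one : op (1 : V ≃ₗ[F] V) = 1 := rfl

theorem op_mul (g h : V ≃ₗ[F] V) : op (g * h) = op g * op h := rfl

end Lin

/-- The standing hypotheses of the linear part. -/
structure Setup (p : ℕ) (F : Type) [Field F] (V : Type u) [AddCommGroup V] [Module F V]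
    (G : Subgroup (V ≃ₗ[F] V)) : Prop where
  prime : p.Prime
  char : CharP F p
  algClosed : IsAlgClosed F
  finDim : FiniteDimensional F V
  nontriv : Nontrivial V
  finG : Finite G
  fpf : ∀ g ∈ G, g ≠ 1 → ∀ v : V, g v = v → v = 0

/-! ## Reduction to the linear case -/

/-- [LIN] -/
def PkgLin : Prop :=
  ∀ {K : Type u} [Group K] [Finite K] (G : Subgroup (MulAut K)),
    (∀ φ ∈ G, φ ≠ 1 → ∀ k : K, φ k = k → k = 1) → G ≠ ⊥ →
    ∀ C : Prop,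
      (∀ (p : ℕ) (F : Type) [Field F] (V : Type u) [AddCommGroup V] [Module F V]
          (H : Subgroup (V ≃ₗ[F] V)), Setup p F V H → Nonempty (G ≃* H) → C) → C

/-- [SYLO] -/
def PkgSylOrig : Prop :=
  ∀ {K : Type u} [Group K] [Finite K] (G : Subgroup (MulAut K)),
    (∀ φ ∈ G, φ ≠ 1 → ∀ k : K, φ k = k → k = 1) → G ≠ ⊥ → SylCond G

/-- [SYLT] -/
def PkgSylT : Prop :=
  ∀ (A B : Type u) [Group A] [Group B], Nonempty (A ≃* B) → SylCond A → SylCond B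

/-! ## Basic consequences of fixed-point-freeness -/

/-- [BASIC] -/
def PkgBasic : Prop :=
  ∀ (p : ℕ) (F : Type) [Field F] (V : Type u) [AddCommGroup V] [Module F V]
    (G : Subgroup (V ≃ₗ[F] V)), Setup p F V G →
    (∀ g ∈ G, g ≠ 1 → ∀ r : Module.End F V, (op g - 1) * r = 0 → r = 0) ∧
    (∀ g ∈ G, orderOf g = 2 → op g = -1) ∧
    (∀ g ∈ G, orderOf g = 3 → op g * op g + op g + 1 = 0) ∧
    (∀ g ∈ G, orderOf g = 4 → op g * op g = -1) ∧
    (∀ g ∈ G, orderOf g = 6 → op g * op g - op g + 1 = 0) ∧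
    (∀ g ∈ G, ¬ p ∣ orderOf g)

/-- [GRP] -/
def PkgGrp : Prop :=
  ∀ (p : ℕ) (F : Type) [Field F] (V : Type u) [AddCommGroup V] [Module F V]
    (G : Subgroup (V ≃ₗ[F] V)), Setup p F V G →
    (∀ g ∈ G, ∀ h ∈ G, orderOf g = 2 → orderOf h = 2 → g = h) ∧
    (∀ g ∈ G, orderOf g = 2 → ∀ h ∈ G, Commute g h) ∧
    (∀ x ∈ G, ∀ y ∈ G, orderOf x = 3 → orderOf y = 3 → Commute x y → y = x ∨ y = x⁻¹)

/-! ## The ring-theoretic core -/

/-- [RCORE] -/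
def PkgRCore : Prop :=
  ∀ (R : Type u) [Ring R] (w q1 q2 q3 : R),
    w * w + w + 1 = 0 → q1 * q1 = -1 → q2 * q2 = -1 → q3 * q3 = -1 →
    q1 * w + w * q1 = 1 - q1 → q2 * w + w * q2 = 1 - q2 → q3 * w + w * q3 = 1 - q3 →
    q1 * q2 + q2 * q1 = -1 → q1 * q3 + q3 * q1 = -1 → q2 * q3 + q3 * q2 = -1 →
    (q1 * q2) * (w + q3) = (w + q3) * (q1 * q2) ∧
    (q1 * q2 = w + q3 → (2 : R) = 0) ∧
    (q2 * q1 = w + q3 → (2 : R) = 0)

/-- [NOTRIPLE] -/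
def PkgNoTriple : Prop :=
  ∀ (p : ℕ) (F : Type) [Field F] (V : Type u) [AddCommGroup V] [Module F V]
    (G : Subgroup (V ≃ₗ[F] V)), Setup p F V G →
    ∀ w ∈ G, ∀ q1 ∈ G, ∀ q2 ∈ G, ∀ q3 ∈ G, orderOf w = 3 → PF w q1 → PF w q2 → PF w q3 →
      orderOf (q1 * q2) = 3 → orderOf (q2 * q3) = 3 → orderOf (q1 * q3) = 3 → False

/-- [NOTWIST] -/
def PkgNoTwist : Prop :=
  ∀ (p : ℕ) (F : Type) [Field F] (V : Type u) [AddCommGroup V] [Module F V]
    (G : Subgroup (V ≃ₗ[F] V)), Setup p F V G → p ≠ 5 →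
    ∀ w ∈ G, ∀ q1 ∈ G, ∀ q2 ∈ G, ∀ q3 ∈ G, orderOf w = 3 → PF w q1 → PF w q2 → PF w q3 →
      orderOf (q1 * q2) = 3 → orderOf (q2 * q3) = 3 →
      (orderOf (q1 * (w⁻¹ * q3 * w)) = 3 ∨ orderOf (q1 * (w * q3 * w⁻¹)) = 3) → False

/-! ## Embeddings into `SL₂(F)` and Dickson -/

/-- [EMBA] -/
def PkgEmbTwo : Prop :=
  ∀ (p : ℕ) (F : Type) [Field F] (V : Type u) [AddCommGroup V] [Module F V]
    (G : Subgroup (V ≃ₗ[F] V)), Setup p F V G →
    ∀ a ∈ G, ∀ b ∈ G, orderOf a = 3 → orderOf b = 3 → ¬ Commute a b →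
      ∃ φ : ↥(Subgroup.closure ({a, b} : Set (V ≃ₗ[F] V))) →*
          Matrix.SpecialLinearGroup (Fin 2) F, Function.Injective φ

/-- [EMBB] -/
def PkgEmbFrames : Prop :=
  ∀ (p : ℕ) (F : Type) [Field F] (V : Type u) [AddCommGroup V] [Module F V]
    (G : Subgroup (V ≃ₗ[F] V)), Setup p F V G →
    ∀ w ∈ G, ∀ q1 ∈ G, ∀ q2 ∈ G, orderOf w = 3 → PF w q1 → PF w q2 →
      ∃ φ : ↥(Subgroup.closure ({w, q1, q2} : Set (V ≃ₗ[F] V))) →*
          Matrix.SpecialLinearGroup (Fin 2) F, Function.Injective φ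

/-- [DK] Dickson for `p'`-subgroups of `SL₂` over an algebraically closed field. -/
def PkgDickson : Prop :=
  ∀ (p : ℕ) [Fact p.Prime] (F : Type) [Field F] [CharP F p] [IsAlgClosed F]
    (H : Type u) [Group H] [Finite H] (φ : H →* Matrix.SpecialLinearGroup (Fin 2) F),
    Function.Injective φ → ¬ p ∣ Nat.card H →
    IsCyclic (H ⧸ (Subgroup.center (Matrix.SpecialLinearGroup (Fin 2) F)).comap φ) ∨
    (∃ k : ℕ, Nonempty ((H ⧸ (Subgroup.center (Matrix.SpecialLinearGroup (Fin 2) F)).comap φ) ≃*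
        DihedralGroup k)) ∨
    Nonempty ((H ⧸ (Subgroup.center (Matrix.SpecialLinearGroup (Fin 2) F)).comap φ) ≃*
        alternatingGroup (Fin 4)) ∨
    Nonempty ((H ⧸ (Subgroup.center (Matrix.SpecialLinearGroup (Fin 2) F)).comap φ) ≃*
        Equiv.Perm (Fin 4)) ∨
    Nonempty ((H ⧸ (Subgroup.center (Matrix.SpecialLinearGroup (Fin 2) F)).comap φ) ≃*
        alternatingGroup (Fin 5))

/-- [DKAPP] -/
def PkgDKApp : Prop :=
  ∀ (p : ℕ) (F : Type) [Field F] (V : Type u) [AddCommGroup V] [Module F V]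
    (G : Subgroup (V ≃ₗ[F] V)), Setup p F V G →
    ∀ H : Subgroup (V ≃ₗ[F] V), H ≤ G →
      (∃ φ : H →* Matrix.SpecialLinearGroup (Fin 2) F, Function.Injective φ) →
      (∃ C : Subgroup H, IsMulCommutative C ∧
          ∀ x : H, orderOf x = 3 ∨ orderOf x = 6 → x ∈ C) ∨
      Nat.card H = 24 ∨
      (Nat.card H = 48 ∧ ∃ H₀ : Subgroup H, H₀.index = 2) ∨
      (Nat.card H = 120 ∧ ¬ Group.IsSolvable H)

/-! ## Recognition -/

/-- [Q8REC] -/
def PkgQ8Rec : Prop :=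
  ∀ (Γ : Type u) [Group Γ], Nat.card Γ = 8 → UI Γ → ¬ IsCyclic Γ →
    Nonempty (Γ ≃* QuaternionGroup 2)

/-- [REC120] -/
def PkgRec120 : Prop :=
  ∀ (Γ : Type u) [Group Γ], Nat.card Γ = 120 → UI Γ → ¬ Group.IsSolvable Γ → Nonempty (Γ ≃* SL25)

/-! ## Facts about `SL(2,5)` -/

/-- [D1] -/
def PkgD1 : Prop :=
  ∀ w : SL25, orderOf w = 3 →
    ∃ q1 q2 : SL25, PF w q1 ∧ PF w q2 ∧ ¬ SameLine w q1 q2 ∧
      Subgroup.closure ({w, q1, q2} : Set SL25) = ⊤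

/-- [D2] -/
def PkgD2 : Prop :=
  ∀ w q1 q2 : SL25, orderOf w = 3 → PF w q1 → PF w q2 → ¬ SameLine w q1 q2 →
    ∃ q2' : SL25, SameLine w q2 q2' ∧ orderOf (q1 * q2') = 3

/-- [D3] -/
def PkgD3 : Prop :=
  ∀ x y : SL25, orderOf x = 3 → orderOf y = 3 → ∃ l : SL25, l * x * l⁻¹ = y

/-! ## Lines and planes -/

/-- [LINE] -/
def PkgLine : Prop :=
  ∀ (p : ℕ) (F : Type) [Field F] (V : Type u) [AddCommGroup V] [Module F V]
    (G : Subgroup (V ≃ₗ[F] V)), Setup p F V G →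
    ∀ w ∈ G, ∀ q ∈ G, orderOf w = 3 → PF w q →
      Nat.card (Subgroup.closure ({w, q} : Set (V ≃ₗ[F] V))) = 24 ∧
      ∀ q' ∈ Subgroup.closure ({w, q} : Set (V ≃ₗ[F] V)), PF w q' → SameLine w q q'

/-- [SIZE] -/
def PkgSize : Prop :=
  ∀ (p : ℕ) (F : Type) [Field F] (V : Type u) [AddCommGroup V] [Module F V]
    (G : Subgroup (V ≃ₗ[F] V)), Setup p F V G →
    ∀ w ∈ G, ∀ q1 ∈ G, ∀ q2 ∈ G, orderOf w = 3 → PF w q1 → PF w q2 →
      SameLine w q1 q2 ∨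
      Nonempty (↥(Subgroup.closure ({w, q1, q2} : Set (V ≃ₗ[F] V))) ≃* SL25)

/-- [MATCH] -/
def PkgMatch : Prop :=
  ∀ (p : ℕ) (F : Type) [Field F] (V : Type u) [AddCommGroup V] [Module F V]
    (G : Subgroup (V ≃ₗ[F] V)), Setup p F V G →
    ∀ w ∈ G, ∀ q1 ∈ G, ∀ q2 ∈ G, orderOf w = 3 → PF w q1 → PF w q2 → ¬ SameLine w q1 q2 →
      ∃ q2' : V ≃ₗ[F] V, SameLine w q2 q2' ∧ orderOf (q1 * q2') = 3

/-- [GEN24] -/
def PkgGen24 : Prop :=
  ∀ (Γ : Type u) [Group Γ], Nat.card Γ = 24 → UI Γ →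
    ∀ w x : Γ, orderOf w = 3 → orderOf x = 3 → ¬ Commute w x → ∃ q : Γ, PF w q

/-- [GEN120] -/
def PkgGen120 : Prop :=
  ∀ (Γ : Type u) [Group Γ], Nat.card Γ = 120 → UI Γ → ¬ Group.IsSolvable Γ →
    ∀ w : Γ, orderOf w = 3 →
      ∃ q1 q2 : Γ, PF w q1 ∧ PF w q2 ∧ Subgroup.closure ({w, q1, q2} : Set Γ) = ⊤

/-- [GEN] -/
def PkgGen : Prop :=
  ∀ (p : ℕ) (F : Type) [Field F] (V : Type u) [AddCommGroup V] [Module F V]
    (G : Subgroup (V ≃ₗ[F] V)), Setup p F V G →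
    ∀ w ∈ G, ∀ x ∈ G, orderOf w = 3 → orderOf x = 3 → x ≠ w → x ≠ w⁻¹ →
      ∃ q1 ∈ G, ∃ q2 ∈ G, PF w q1 ∧ PF w q2 ∧
        x ∈ Subgroup.closure ({w, q1, q2} : Set (V ≃ₗ[F] V))

/-- [NT] at most two lines through a point. -/
def PkgNT : Prop :=
  ∀ (p : ℕ) (F : Type) [Field F] (V : Type u) [AddCommGroup V] [Module F V]
    (G : Subgroup (V ≃ₗ[F] V)), Setup p F V G →
    ∀ w ∈ G, ∀ q1 ∈ G, ∀ q2 ∈ G, ∀ q3 ∈ G, orderOf w = 3 → PF w q1 → PF w q2 → PF w q3 →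
      SameLine w q1 q2 ∨ SameLine w q1 q3 ∨ SameLine w q2 q3

/-! ## Abstract group theory -/

/-- [THREE] -/
def PkgThree : Prop :=
  ∀ (Γ : Type u) [Group Γ] [Finite Γ], commutator Γ = ⊤ → Nontrivial Γ → SylCond Γ →
    ∃ w : Γ, orderOf w = 3

/-- [SMALL] -/
def PkgSmall : Prop :=
  ∀ (Γ : Type u) [Group Γ] [Finite Γ], commutator Γ = ⊤ →
    ∀ M : Subgroup Γ, Nat.card M ∣ 24 → (∀ x : Γ, orderOf x = 3 → x ∈ M) →
    ∀ w : Γ, orderOf w = 3 → w ∈ Subgroup.center Γ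

/-- [TRANSFER] -/
def PkgTransfer : Prop :=
  ∀ (Γ : Type u) [Group Γ] [Finite Γ], commutator Γ = ⊤ → SylCond Γ →
    ∀ w : Γ, w ∈ Subgroup.center Γ → orderOf w = 3 → False

/-- [END] -/
def PkgEnd : Prop :=
  ∀ (p : ℕ) (F : Type) [Field F] (V : Type u) [AddCommGroup V] [Module F V]
    (G : Subgroup (V ≃ₗ[F] V)), Setup p F V G → commutator G = ⊤ → SylCond G →
    ∀ w ∈ G, ∀ q1 ∈ G, ∀ q2 ∈ G, orderOf w = 3 → PF w q1 → PF w q2 → ¬ SameLine w q1 q2 →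
      (∀ q ∈ G, PF w q → SameLine w q1 q ∨ SameLine w q2 q) →
      (∀ x ∈ G, orderOf x = 3 → x ∈ Subgroup.closure ({w, q1, q2} : Set (V ≃ₗ[F] V))) →
      Nonempty (↥(Subgroup.closure ({w, q1, q2} : Set (V ≃ₗ[F] V))) ≃* SL25) →
      Subgroup.closure ({w, q1, q2} : Set (V ≃ₗ[F] V)) = G

/-- [TOP] the linear main theorem. -/
def PkgMain : Prop :=
  ∀ (p : ℕ) (F : Type) [Field F] (V : Type u) [AddCommGroup V] [Module F V]
    (G : Subgroup (V ≃ₗ[F] V)), Setup p F V G → commutator G = ⊤ → G ≠ ⊥ → SylCond G →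
    Nonempty (G ≃* SL25)

end Cfsg.Agent.Lib.Helper90.Zas
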